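import Mathlib.RingTheory.Nilpotent.GeometricallyReduced
import Mathlib.FieldTheory.PurelyInseparable.Basic
import Mathlib.FieldTheory.Perfect
import Mathlib.RingTheory.AdjoinRoot
import Mathlib.RingTheory.Artinian.Module
import Mathlib.RingTheory.Spectrum.Prime.Topology
import Groth.Agent.Lib.WeilRes21.Connected

/-!
# Finite extensions with reduced or connected base changes
-/

universe u
open TensorProduct Polynomial

namespace Groth.Agent.GlobFun18

variable {k : Type u} [Field k]

/-- A finite geometrically reduced extension field is separable. -/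
theorem isSeparable_of_isGeometricallyReduced (L : Type u) [Field L] [Algebra k L] [Module.Finite k L]
    [Algebra.IsGeometricallyReduced k L] : Algebra.IsSeparable k L := by
  refine ⟨fun x => ?_⟩
  have hx : IsIntegral k x := Algebra.IsIntegral.isIntegral x
  let K := AlgebraicClosure k
  have hp0 : minpoly k x ≠ 0 := minpoly.ne_zero hx
  haveI : Fact (Irreducible (minpoly k x)) := ⟨minpoly.irreducible hx⟩
  let ψ : AdjoinRoot (minpoly k x) →ₐ[k] L := AdjoinRoot.liftAlgHom _ (Algebra.ofId k L) x (minpoly.aeval k x)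
  haveI : Algebra.IsGeometricallyReduced k (AdjoinRoot (minpoly k x)) :=
    Algebra.IsGeometricallyReduced.of_injective ψ ψ.toRingHom.injective
  let pb := AdjoinRoot.powerBasis hp0
  let b := pb.basis.baseChange K
  have hd : pb.dim = (minpoly k x).natDegree := rfl
  show (minpoly k x).Separable
  rw [← separable_map (algebraMap k K), PerfectField.separable_iff_squarefree]
  set pK := (minpoly k x).map (algebraMap k K) with hpK
  have hpK0 : pK ≠ 0 := (Polynomial.map_ne_zero_iff (algebraMap k K).injective).2 hp0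
  intro q hq
  by_contra hu
  obtain ⟨r, hr⟩ := hq
  set g := q * r with hg
  have hg0 : g ≠ 0 := fun h => hpK0 (by rw [hr, mul_assoc, ← hg, h, mul_zero])
  have hqd : 1 ≤ q.natDegree := by
    refine Nat.one_le_iff_ne_zero.2 fun h => hu ?_
    have hq0 : q ≠ 0 := fun h0 => hg0 (by rw [hg, h0, zero_mul])
    rw [Polynomial.eq_C_of_natDegree_eq_zero h] at hq0 ⊢
    exact Polynomial.isUnit_C.2 (isUnit_iff_ne_zero.2 fun h0 => hq0 (by rw [h0, map_zero]))
  have hdeg : g.natDegree < pb.dim := by
    have hq0 : q ≠ 0 := fun h0 => hg0 (by rw [hg, h0, zero_mul])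
    have : pK.natDegree = q.natDegree + g.natDegree := by
      rw [hr, mul_assoc, ← hg, Polynomial.natDegree_mul hq0 hg0]
    rw [hpK, Polynomial.natDegree_map] at this
    omega
  set y : K ⊗[k] AdjoinRoot (minpoly k x) := 1 ⊗ₜ AdjoinRoot.root _ with hy
  have hpy : aeval y pK = 0 := by
    rw [hpK, aeval_map_algebraMap, show y = Algebra.TensorProduct.includeRight (AdjoinRoot.root _) from rfl,
      aeval_algHom_apply, AdjoinRoot.aeval_eq, AdjoinRoot.mk_self, map_zero]
  have hz : aeval y g = 0 := by
    refine IsNilpotent.eq_zero ⟨2, ?_⟩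
    rw [← map_pow, show g ^ 2 = r * pK by rw [hg, hr]; ring, map_mul, hpy, mul_zero]
  refine hg0 (Polynomial.ext fun n => ?_)
  rcases lt_or_ge n pb.dim with hn | hn
  · have hsum : aeval y g = ∑ i : Fin pb.dim, g.coeff i • b i := by
      rw [aeval_eq_sum_range' hdeg, ← Fin.sum_univ_eq_sum_range (fun i => g.coeff i • y ^ i)]
      refine Finset.sum_congr rfl fun i _ => ?_
      simp [b, y, pb, Algebra.TensorProduct.tmul_pow, Algebra.TensorProduct.basis_apply]
    rw [hsum] at hz
    simpa using Fintype.linearIndependent_iff.1 b.linearIndependent (fun i => g.coeff i) hz ⟨n, hn⟩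
  · rw [Polynomial.coeff_eq_zero_of_natDegree_lt (by omega), Polynomial.coeff_zero]

/-- A finite extension field whose base change to every field has connected spectrum is purely inseparable. -/
theorem isPurelyInseparable_of_connected (L : Type u) [Field L] [Algebra k L] [Module.Finite k L]
    (h : ∀ (K : Type u) [Field K] [Algebra k K], PreconnectedSpace (PrimeSpectrum (K ⊗[k] L))) :
    IsPurelyInseparable k L := by
  rw [isPurelyInseparable_iff_finSepDegree_eq_one, Field.finSepDegree, Nat.card_eq_one_iff_unique]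
  refine ⟨⟨fun σ τ => ?_⟩, inferInstance⟩
  let K := AlgebraicClosure L
  haveI := h K
  haveI : IsArtinianRing (K ⊗[k] L) := IsArtinianRing.of_finite K _
  haveI : Subsingleton (PrimeSpectrum (K ⊗[k] L)) :=
    ⟨fun a b => isPreconnected_univ.subsingleton (Set.mem_univ a) (Set.mem_univ b)⟩
  let F : (L →ₐ[k] K) → (K ⊗[k] L →ₐ[K] K) := fun ρ =>
    Algebra.TensorProduct.lift (Algebra.ofId K K) ρ fun _ _ => Commute.all _ _
  have hker : RingHom.ker (F σ).toRingHom = RingHom.ker (F τ).toRingHom :=
    congrArg PrimeSpectrum.asIdeal (Subsingleton.elim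
      (⟨_, RingHom.ker_isPrime _⟩ : PrimeSpectrum (K ⊗[k] L)) ⟨_, RingHom.ker_isPrime _⟩)
  refine AlgHom.ext fun z => ?_
  have hm : (σ z ⊗ₜ[k] (1 : L) - (1 : K) ⊗ₜ[k] z : K ⊗[k] L) ∈ RingHom.ker (F σ).toRingHom := by
    simp [F]
  rw [hker] at hm
  simp [F, sub_eq_zero] at hm
  exact hm

/-- An element algebraic over a field in a reduced ring without non-trivial idempotents is zero or a unit,
with inverse integral over the field. -/
theorem isField_integralClosure (A : Type u) [CommRing A] [Algebra k A] [IsReduced A] [Nontrivial A]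
    (hid : ∀ e : A, IsIdempotentElem e → e = 0 ∨ e = 1) : IsField (integralClosure k A) := by
  refine ⟨exists_pair_ne _, mul_comm, fun {a} ha => ?_⟩
  haveI : Module.Finite k (Algebra.adjoin k {(a : A)}) :=
    ⟨(Submodule.fg_top _).2 (IsIntegral.fg_adjoin_singleton a.2)⟩
  haveI : IsArtinianRing (Algebra.adjoin k {(a : A)}) := IsArtinianRing.of_finite k _
  let x : Algebra.adjoin k {(a : A)} := ⟨a, Algebra.subset_adjoin rfl⟩
  obtain ⟨n, y, hy⟩ := IsArtinian.exists_pow_succ_smul_dvd x (1 : Algebra.adjoin k {(a : A)})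
  have hy' : (a : A) ^ n.succ * y = (a : A) ^ n := by
    simpa [x] using congrArg Subtype.val hy
  have hz : ∀ m : ℕ, (a : A) ^ n * ((a : A) * y) ^ m = (a : A) ^ n := by
    intro m
    induction m with
    | zero => rw [pow_zero, mul_one]
    | succ m ih => rw [pow_succ, ← mul_assoc, ih, ← mul_assoc, ← pow_succ, hy']
  have he : IsIdempotentElem (((a : A) * y) ^ n) := by
    show _ * _ = _
    calc ((a : A) * y) ^ n * ((a : A) * y) ^ n = (a : A) ^ n * ((a : A) * y) ^ n * (y : A) ^ n := by ring
      _ = _ := by rw [hz n, mul_pow]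
  rcases hid _ he with h0 | h1
  · exfalso
    refine ha (Subtype.ext ?_)
    refine IsNilpotent.eq_zero ⟨n, ?_⟩
    rw [← hz n, h0, mul_zero]
  · have hy0 : (y : A) ∈ integralClosure k A :=
      (show Algebra.adjoin k {(a : A)} ≤ integralClosure k A from
        Algebra.adjoin_le (Set.singleton_subset_iff.2 a.2)) y.2
    rcases Nat.eq_zero_or_pos n with hn | hn
    · exact ⟨⟨y, hy0⟩, Subtype.ext (by simpa [hn] using hy')⟩
    · obtain ⟨m, rfl⟩ := Nat.exists_eq_succ_of_ne_zero hn.ne'
      refine ⟨⟨y, hy0⟩ * (a * ⟨y, hy0⟩) ^ m, Subtype.ext ?_⟩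
      push_cast
      rw [← h1, Nat.succ_eq_add_one]
      ring

end Groth.Agent.GlobFun18
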