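import Mathlib.AlgebraicGeometry.Morphisms.Proper
import Mathlib.AlgebraicGeometry.Geometrically.Connected
import Mathlib.AlgebraicGeometry.Geometrically.Reduced
import Mathlib.RingTheory.IsTensorProduct
import Groth.Agent.Lib.GlobFun18.Alg

/-!
# Global functions: idempotents and change of the base field
-/

universe u
open CategoryTheory Limits AlgebraicGeometry TensorProduct

set_option backward.isDefEq.respectTransparency false

namespace Groth.Agent.GlobFun18

theorem idem_eq_zero_or_one {X : Scheme.{u}} [PreconnectedSpace X] {e : Γ(X, ⊤)} (he : IsIdempotentElem e) :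
    e = 0 ∨ e = 1 := by
  have hg : ∀ x : X, (X.presheaf.germ ⊤ x trivial).hom e = 0 ∨ (X.presheaf.germ ⊤ x trivial).hom e = 1 := fun x =>
    (IsLocalRing.isUnit_or_isUnit_one_sub_self ((X.presheaf.germ ⊤ x trivial).hom e)).elim
      (fun h => Or.inr ((IsIdempotentElem.iff_eq_one_of_isUnit h).1 (he.map _)))
      (fun h => Or.inl (by
        simpa using (IsIdempotentElem.iff_eq_one_of_isUnit h).1 (he.map (X.presheaf.germ ⊤ x trivial).hom).one_sub))
  have hc : (X.basicOpen e : Set X)ᶜ = (X.basicOpen (1 - e) : Set X) := by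
    ext x
    simp only [Set.mem_compl_iff, SetLike.mem_coe, Scheme.mem_basicOpen_top, map_sub, map_one]
    rcases hg x with h | h <;> simp [h]
  rcases isClopen_iff.1 (⟨⟨hc ▸ (X.basicOpen (1 - e)).isOpen⟩, (X.basicOpen e).isOpen⟩ :
    IsClopen (X.basicOpen e : Set X)) with h | h
  · refine Or.inl (TopCat.Presheaf.section_ext X.sheaf ⊤ e 0 fun x _ => ?_)
    refine (hg x).elim (fun h0 => h0.trans (map_zero _).symm) fun h1 => absurd ?_ (Set.notMem_empty x)
    rw [← h, SetLike.mem_coe, Scheme.mem_basicOpen_top, h1]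
    exact isUnit_one
  · refine Or.inr (TopCat.Presheaf.section_ext X.sheaf ⊤ e 1 fun x _ => ?_)
    refine (hg x).elim (fun h0 => ?_) fun h1 => h1.trans (map_one _).symm
    have hx : x ∈ (X.basicOpen e : Set X) := h ▸ Set.mem_univ x
    rw [SetLike.mem_coe, Scheme.mem_basicOpen_top, h0] at hx
    exact absurd hx not_isUnit_zero

/-- Global functions commute with a change of the base field. -/
theorem exists_ringEquiv_tensor {k : Type u} [Field k] {X : Scheme.{u}} (f : X ⟶ Spec (CommRingCat.of k))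
    [QuasiCompact f] [QuasiSeparated f] [Algebra k Γ(X, ⊤)]
    (halg : algebraMap k Γ(X, ⊤) = f.appTop.hom.comp (Scheme.ΓSpecIso (CommRingCat.of k)).inv.hom)
    (K : Type u) [Field K] [Algebra k K] :
    Nonempty (K ⊗[k] Γ(X, ⊤) ≃+* Γ(pullback f (Spec.map (CommRingCat.ofHom (algebraMap k K))), ⊤)) := by
  let φ := Spec.map (CommRingCat.ofHom (algebraMap k K))
  haveI : CompactSpace X := QuasiCompact.compactSpace_of_compactSpace f
  haveI : QuasiSeparatedSpace X := quasiSeparatedSpace_of_quasiSeparated f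
  let g := pullback.fst f φ
  let i := pullback.snd f φ
  have hiso := isIso_pushoutSection_of_isQuasiSeparated_of_flat_right (IsPullback.of_hasPullback f φ)
    (US := ⊤) (UT := ⊤) (UX := ⊤) (UY := ⊤) le_top le_top (by simp) (isAffineOpen_top _) (isAffineOpen_top _)
    (isCompact_univ) (isQuasiSeparated_univ)
  replace hiso := (isIso_pushoutSection_iff (IsPullback.of_hasPullback f φ) le_top le_top (by simp)).mp hiso
  replace hiso : IsPushout f.appTop φ.appTop g.appTop i.appTop := by
    simp only [Scheme.Hom.appTop, Scheme.Hom.app_eq_appLE]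
    exact hiso
  let c : CommRingCat.of K ⟶ Γ(pullback f φ, ⊤) := (Scheme.ΓSpecIso (CommRingCat.of K)).inv ≫ i.appTop
  have hpo : IsPushout (CommRingCat.ofHom (algebraMap k Γ(X, ⊤))) (CommRingCat.ofHom (algebraMap k K)) g.appTop c := by
    refine hiso.of_iso (Scheme.ΓSpecIso (CommRingCat.of k)) (Iso.refl _) (Scheme.ΓSpecIso (CommRingCat.of K))
      (Iso.refl _) ?_ ?_ ?_ ?_
    · rw [Iso.refl_hom, Category.comp_id, show CommRingCat.ofHom (algebraMap k Γ(X, ⊤)) =
        (Scheme.ΓSpecIso (CommRingCat.of k)).inv ≫ f.appTop from CommRingCat.hom_ext halg, Iso.hom_inv_id_assoc]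
    · exact Scheme.ΓSpecIso_naturality _
    · simp
    · simp [c]
  letI := g.appTop.hom.toAlgebra
  letI : Algebra K Γ(pullback f φ, ⊤) := c.hom.toAlgebra
  letI : Algebra k Γ(pullback f φ, ⊤) := (CommRingCat.ofHom (algebraMap k Γ(X, ⊤)) ≫ g.appTop).hom.toAlgebra
  haveI : IsScalarTower k Γ(X, ⊤) Γ(pullback f φ, ⊤) := .of_algebraMap_eq' rfl
  haveI : IsScalarTower k K Γ(pullback f φ, ⊤) := .of_algebraMap_eq' (congrArg CommRingCat.Hom.hom hpo.w)
  haveI : Algebra.IsPushout k Γ(X, ⊤) K Γ(pullback f φ, ⊤) := CommRingCat.isPushout_iff_isPushout.mp hpo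
  haveI : Algebra.IsPushout k K Γ(X, ⊤) Γ(pullback f φ, ⊤) := Algebra.IsPushout.symm inferInstance
  exact ⟨(Algebra.IsPushout.equiv k K Γ(X, ⊤) Γ(pullback f φ, ⊤)).toRingEquiv⟩

theorem isGeometricallyReduced_globalSections {k : Type u} [Field k] {X : Scheme.{u}} (f : X ⟶ Spec (CommRingCat.of k))
    [QuasiCompact f] [QuasiSeparated f] [GeometricallyReduced f] [Algebra k Γ(X, ⊤)]
    (halg : algebraMap k Γ(X, ⊤) = f.appTop.hom.comp (Scheme.ΓSpecIso (CommRingCat.of k)).inv.hom) :
    Algebra.IsGeometricallyReduced k Γ(X, ⊤) := by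
  obtain ⟨e⟩ := exists_ringEquiv_tensor f halg (AlgebraicClosure k)
  haveI : IsReduced (pullback f (Spec.map (CommRingCat.ofHom (algebraMap k (AlgebraicClosure k))))) :=
    GeometricallyReduced.geometrically_isReduced _ _ _ (IsPullback.of_hasPullback f _)
  rw [Algebra.isGeometricallyReduced_field_iff]
  exact isReduced_of_injective e.toRingHom e.injective

theorem preconnectedSpace_tensor {k : Type u} [Field k] {X : Scheme.{u}} (f : X ⟶ Spec (CommRingCat.of k))
    [QuasiCompact f] [QuasiSeparated f] [GeometricallyConnected f] [Algebra k Γ(X, ⊤)]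
    (halg : algebraMap k Γ(X, ⊤) = f.appTop.hom.comp (Scheme.ΓSpecIso (CommRingCat.of k)).inv.hom)
    (K : Type u) [Field K] [Algebra k K] : PreconnectedSpace (PrimeSpectrum (K ⊗[k] Γ(X, ⊤))) := by
  obtain ⟨e⟩ := exists_ringEquiv_tensor f halg K
  haveI : ConnectedSpace ↥(pullback f (Spec.map (CommRingCat.ofHom (algebraMap k K)))) :=
    GeometricallyConnected.geometrically_connectedSpace _ _ _ (IsPullback.of_hasPullback f _)
  rcases subsingleton_or_nontrivial (K ⊗[k] Γ(X, ⊤)) with h | h
  · infer_instance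
  · haveI := WeilRes21.connectedSpace_of_idem (E := K ⊗[k] Γ(X, ⊤)) fun a ha =>
      (idem_eq_zero_or_one (ha.map e)).imp (fun h => e.injective (h.trans (map_zero e).symm))
        (fun h => e.injective (h.trans (map_one e).symm))
    infer_instance

end Groth.Agent.GlobFun18
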